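import Cfsg.Agent.Lib.Recog.SporBound.Sound
import Cfsg.Agent.Lib.Recog.SporBound.AEightL.Tree0

set_option autoImplicit false
set_option maxRecDepth 20000

/-! Generated closure certificate: 2^(1+4).Sym(3) in the A8 pattern over 1 (helper22) (owner: lead). -/

namespace CfsgLib.Recog.SporBound.AEightL
open CfsgLib.Recog.SporBound

noncomputable def factTree : Q (ℕ) := (.node ft0 ft1 ft2 ft3)
noncomputable def nodeTree : Q (ℕ) := (.node ct0 ct1 (.leaf 0) (.leaf 0))
noncomputable def stepTree : Q (List ℕ) := (.node st0 st1 st2 st3)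
noncomputable def finalTree : Q (List ℕ) := et12

/-- The certificate. -/
noncomputable def cert : Cert where
  n := 192
  nd := 238
  nf := 449
  kl := [0, 1, 2, 3]
  facts := factTree
  cn := nodeTree
  steps := stepTree
  finals := finalTree
  rels := [[0, 0], [1, 1], [2, 2], [3, 3], [0, 1, 0, 1], [2, 3, 2, 3, 2, 3], [0, 2, 3, 0, 2, 3, 2, 0, 3], [1, 2, 3, 1, 2, 3, 2, 1, 3]]
  subs := []

/-- Chains of the traced words. -/
noncomputable def closers : List ℕ := []

end CfsgLib.Recog.SporBound.AEightL
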